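import Groth.Agent.Etalg.ResInd
import Mathlib.RingTheory.Valuation.ValuationSubring
import Mathlib.FieldTheory.IntermediateField.Adjoin.Algebra

/-!
# Approximation of subfields of a valued field

`Close O S S'`: every nonzero element of `S` is approximated by an element of `S'` with an error of smaller value.
If `e` is a family whose coordinates over `F` are bounded (`v (c j) ≤ C * v (∑ c j * e j)`) and `e'` is close to
`e`, then `∑ c j * e j ↦ ∑ c j * e' j` moves every element by an error of smaller value.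
-/

set_option autoImplicit false
universe u

open Groth.Agent.Etalg.ResInd IntermediateField

namespace Groth.Agent.Etalg.H122.Approx

variable {Ω : Type u} [Field Ω] (O : ValuationSubring Ω)

/-- every nonzero element of `S` is approximated by an element of `S'`, with an error of smaller value -/
def Close (S S' : Set Ω) : Prop :=
  ∀ x ∈ S, x ≠ 0 → ∃ y ∈ S', O.valuation (y - x) < O.valuation x

variable {O}

/-- an element close to `x` has the same value -/
theorem valuation_eq_of_sub_lt {x y : Ω} (h : O.valuation (y - x) < O.valuation x) :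
    O.valuation y = O.valuation x := by
  have h1 : y = x + (y - x) := by ring
  rw [h1]
  exact Valuation.map_add_eq_of_lt_left _ h

theorem sum_sub_lt {ι : Type*} [Fintype ι] {e e' : ι → Ω} {F : Set Ω} {C δ : O.ValueGroup}
    (hC : ∀ c : ι → Ω, (∀ j, c j ∈ F) → ∀ j, O.valuation (c j) ≤ C * O.valuation (∑ j, c j * e j))
    (he : ∀ j, O.valuation (e' j - e j) ≤ δ) (hCδ : C * δ < 1) (c : ι → Ω) (hc : ∀ j, c j ∈ F)
    (hne : ∑ j, c j * e j ≠ 0) :
    O.valuation (∑ j, c j * e' j - ∑ j, c j * e j) < O.valuation (∑ j, c j * e j) := by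
  have h1 : ∑ j, c j * e' j - ∑ j, c j * e j = ∑ j, c j * (e' j - e j) := by
    rw [← Finset.sum_sub_distrib]
    exact Finset.sum_congr rfl fun j _ => by ring
  have hpos : 0 < O.valuation (∑ j, c j * e j) := zero_lt_iff.2 ((Valuation.ne_zero_iff _).2 hne)
  rw [h1]
  refine sum_lt hpos fun j _ => ?_
  rw [map_mul]
  calc O.valuation (c j) * O.valuation (e' j - e j)
      ≤ (C * O.valuation (∑ j, c j * e j)) * δ := mul_le_mul' (hC c hc j) (he j)
    _ = (C * δ) * O.valuation (∑ j, c j * e j) := by rw [mul_right_comm]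
    _ < 1 * O.valuation (∑ j, c j * e j) := by
        exact (mul_lt_mul_iff_left₀ hpos).2 hCδ
    _ = O.valuation (∑ j, c j * e j) := one_mul _

/-- The bound contains linear independence. -/
theorem eq_zero_of_sum_eq_zero {ι : Type*} [Fintype ι] {e : ι → Ω} {F : Set Ω} {C : O.ValueGroup}
    (hC : ∀ c : ι → Ω, (∀ j, c j ∈ F) → ∀ j, O.valuation (c j) ≤ C * O.valuation (∑ j, c j * e j))
    (c : ι → Ω) (hc : ∀ j, c j ∈ F) (h0 : ∑ j, c j * e j = 0) (j : ι) : c j = 0 := by
  have := hC c hc j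
  rw [h0, map_zero, mul_zero, le_zero_iff] at this
  exact (Valuation.zero_iff _).1 this

section fields

variable {K : Type u} [Field K] [Algebra K Ω]

/-- If `E'` is spanned over `Es` by `e'`, then `F ⊔ E'` is spanned over `F` by `e'`. -/
theorem exists_sum_of_mem_sup {ι : Type*} [Fintype ι] {Es F E' : IntermediateField K Ω} (hF : Es ≤ F)
    (halg : ∀ x ∈ E', IsAlgebraic F x)
    {e' : ι → Ω} (hspan : ∀ x ∈ E', ∃ c : ι → Ω, (∀ j, c j ∈ Es) ∧ x = ∑ j, c j * e' j)
    {x : Ω} (hx : x ∈ F ⊔ E') : ∃ c : ι → Ω, (∀ j, c j ∈ F) ∧ x = ∑ j, c j * e' j := by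
  classical
  -- `x` is in the field generated by `E'` over `F`, hence in the algebra generated, hence in the span
  have h1 : x ∈ adjoin F (E' : Set Ω) := by
    have h2 : restrictScalars K (adjoin F (E' : Set Ω)) = F ⊔ adjoin K (E' : Set Ω) :=
      restrictScalars_adjoin_eq_sup _ _ _
    rw [adjoin_self] at h2
    rw [← h2] at hx
    exact hx
  have h3 : x ∈ Algebra.adjoin F (E' : Set Ω) := by
    rw [← adjoin_toSubalgebra_of_isAlgebraic halg]
    exact h1
  have h4 : x ∈ Submodule.span F (E' : Set Ω) := by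
    have h5 : Subalgebra.toSubmodule (Algebra.adjoin F (E' : Set Ω)) =
        Submodule.span F (Submonoid.closure (E' : Set Ω) : Set Ω) := Algebra.adjoin_eq_span _ _
    have h6 : (Submonoid.closure (E' : Set Ω) : Set Ω) = (E' : Set Ω) := by
      have h7 : Submonoid.closure (E'.toSubalgebra.toSubsemiring.toSubmonoid : Set Ω) =
        E'.toSubalgebra.toSubsemiring.toSubmonoid := Submonoid.closure_eq _
      exact congrArg (fun S : Submonoid Ω => (S : Set Ω)) h7
    rw [h6] at h5
    have h8 : x ∈ Subalgebra.toSubmodule (Algebra.adjoin F (E' : Set Ω)) := h3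
    rwa [h5] at h8
  have key : ∀ y ∈ Submodule.span F (E' : Set Ω), ∃ c : ι → Ω, (∀ j, c j ∈ F) ∧ y = ∑ j, c j * e' j := by
    intro y hy
    induction hy using Submodule.span_induction with
    | mem y hy =>
      obtain ⟨c, hc, hy⟩ := hspan y hy
      exact ⟨c, fun j => hF (hc j), hy⟩
    | zero => exact ⟨fun _ => 0, fun _ => F.zero_mem, by simp⟩
    | add y z _ _ hy hz =>
      obtain ⟨c, hc, rfl⟩ := hy
      obtain ⟨d, hd, rfl⟩ := hz
      refine ⟨fun j => c j + d j, fun j => F.add_mem (hc j) (hd j), ?_⟩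
      rw [← Finset.sum_add_distrib]
      exact Finset.sum_congr rfl fun j _ => by ring
    | smul a y _ hy =>
      obtain ⟨c, hc, rfl⟩ := hy
      refine ⟨fun j => a * c j, fun j => F.mul_mem a.2 (hc j), ?_⟩
      rw [Algebra.smul_def, Finset.mul_sum]
      exact Finset.sum_congr rfl fun j _ => by rw [mul_assoc]; rfl
  exact key x h4

variable {ι : Type*} [Fintype ι] {Es F E E' : IntermediateField K Ω} {e e' : ι → Ω} {C δ : O.ValueGroup}

/-- elements of `E` are approximated by elements of `E'` -/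
theorem close_base (hF : Es ≤ F) (hE' : Es ≤ E') (he' : ∀ j, e' j ∈ E')
    (hspan : ∀ x ∈ E, ∃ c : ι → Ω, (∀ j, c j ∈ Es) ∧ x = ∑ j, c j * e j)
    (hC : ∀ c : ι → Ω, (∀ j, c j ∈ F) → ∀ j, O.valuation (c j) ≤ C * O.valuation (∑ j, c j * e j))
    (he : ∀ j, O.valuation (e' j - e j) ≤ δ) (hCδ : C * δ < 1) : Close O (E : Set Ω) (E' : Set Ω) := by
  intro x hx hx0
  obtain ⟨c, hc, rfl⟩ := hspan x hx
  exact ⟨∑ j, c j * e' j, E'.sum_mem fun j _ => E'.mul_mem (hE' (hc j)) (he' j),
    sum_sub_lt (F := (F : Set Ω)) hC he hCδ c (fun j => hF (hc j)) hx0⟩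

/-- elements of `F ⊔ E'` are approximated by elements of `F ⊔ E` -/
theorem close_sup (hF : Es ≤ F) (he1 : ∀ j, e j ∈ E)
    (halg : ∀ x ∈ E', IsAlgebraic F x)
    (hspan : ∀ x ∈ E', ∃ c : ι → Ω, (∀ j, c j ∈ Es) ∧ x = ∑ j, c j * e' j)
    (hC : ∀ c : ι → Ω, (∀ j, c j ∈ F) → ∀ j, O.valuation (c j) ≤ C * O.valuation (∑ j, c j * e j))
    (he : ∀ j, O.valuation (e' j - e j) ≤ δ) (hCδ : C * δ < 1) :
    Close O ((F ⊔ E' : IntermediateField K Ω) : Set Ω) ((F ⊔ E : IntermediateField K Ω) : Set Ω) := by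
  intro y hy hy0
  obtain ⟨c, hc, rfl⟩ := exists_sum_of_mem_sup hF halg hspan hy
  have hne : ∑ j, c j * e j ≠ 0 := by
    intro h0
    apply hy0
    exact Finset.sum_eq_zero fun j _ => by
      rw [eq_zero_of_sum_eq_zero (F := (F : Set Ω)) hC c hc h0 j, zero_mul]
  have h1 := sum_sub_lt (F := (F : Set Ω)) hC he hCδ c hc hne
  have hFs : F ≤ F ⊔ E := le_sup_left
  have hEs : E ≤ F ⊔ E := le_sup_right
  refine ⟨∑ j, c j * e j, (F ⊔ E).sum_mem fun j _ => (F ⊔ E).mul_mem (hFs (hc j)) (hEs (he1 j)), ?_⟩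
  rw [valuation_eq_of_sub_lt h1, Valuation.map_sub_swap]
  exact h1

/-- transfer of the uniformizer -/
theorem isUnif_of_close {S S' T T' : Set Ω} {π : Ω} (hπ : IsUnif O T π) (hπS : π ∈ S)
    (h1 : Close O S S') (h2 : Close O T' T) : ∃ π' ∈ S', IsUnif O T' π' ∧ O.valuation π' = O.valuation π := by
  obtain ⟨π', hπ', h⟩ := h1 π hπS hπ.1
  have hv := valuation_eq_of_sub_lt h
  refine ⟨π', hπ', ⟨?_, ?_, ?_⟩, hv⟩
  · intro h0
    rw [h0, map_zero] at hv
    exact hπ.pos.ne hv
  · rw [hv]; exact hπ.2.1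
  · intro x hx hx0
    obtain ⟨y, hy, hyx⟩ := h2 x hx hx0
    have hv' := valuation_eq_of_sub_lt hyx
    have hy0 : y ≠ 0 := by
      rintro rfl
      rw [map_zero] at hv'
      exact hx0 ((Valuation.zero_iff _).1 hv'.symm)
    obtain ⟨k, hk⟩ := hπ.2.2 y hy hy0
    exact ⟨k, by rw [hv, ← hv', hk]⟩

end fields

end Groth.Agent.Etalg.H122.Approx
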