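import Groth.Agent.Etalg.H122.Approx
import Groth.Agent.Etalg.SepSol2
import Groth.Agent.Ega41.SepExt
import Mathlib.RingTheory.Unramified.Field

/-!
# Transfer of geometric reducedness of the residue field extension along an approximation

* `geomReduced_of_tower`: if `l/k` is geometrically reduced and `k'/k` is an algebraic subextension, then `l/k'` is
  geometrically reduced.
* `geomReduced_of_close`: if `E ⊂ M`, `E' ⊂ M'` are subfields of a valued field `(Ω, O)`, elements of `E` are
  approximated by elements of `E'` and elements of `M'` by elements of `M`, and `E'` is algebraic over `E`, then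
  separability of the residue field extension of `M/E` implies that of `M'/E'`.
-/

set_option autoImplicit false
universe u

open Groth.Agent.Etalg.ResInd IsLocalRing EtRam Groth.Agent.Etalg.RamBasic Groth.Agent.Etalg.H122.Approx

namespace Groth.Agent.Etalg.H122.ResClose

/-- if `l/k` is geometrically reduced and `k'/k` is an algebraic subextension, then `l/k'` is geometrically reduced -/
theorem geomReduced_of_tower (k k' l : Type u) [Field k] [Field k'] [Field l] [Algebra k k'] [Algebra k' l]
    [Algebra k l] [IsScalarTower k k' l] [Algebra.IsAlgebraic k k'] [Algebra.IsGeometricallyReduced k l] :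
    Algebra.IsGeometricallyReduced k' l := by
  have h1 : Algebra.IsGeometricallyReduced k k' :=
    Algebra.IsGeometricallyReduced.of_injective (IsScalarTower.toAlgHom k k' l) (algebraMap k' l).injective
  have h2 : Algebra.IsSeparable k k' := SepSol2.isSeparable_of_isGeometricallyReduced k k'
  have h3 : Algebra.FormallyUnramified k k' := Algebra.FormallyUnramified.of_isSeparable k k'
  have h4 : Algebra.FormallySmooth k l := (Ega41.SepExt.formallySmooth_iff_isGeometricallyReduced k l).2 inferInstance
  have h5 : Algebra.FormallySmooth k' l := Algebra.FormallySmooth.of_restrictScalars k k' l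
  exact (Ega41.SepExt.formallySmooth_iff_isGeometricallyReduced k' l).1 h5

/-- factorization through an injection with a larger range -/
theorem exists_factor {k k' Λ : Type u} [Field k] [Field k'] [Field Λ] (a : k →+* Λ) (b : k' →+* Λ)
    (h : ∀ x, ∃ y, b y = a x) : ∃ θ : k →+* k', ∀ x, b (θ x) = a x := by
  choose j hj using h
  exact ⟨{ toFun := j
           map_one' := b.injective (by rw [hj, map_one, map_one])
           map_mul' := fun x y => b.injective (by rw [hj, map_mul, map_mul, hj, hj])
           map_zero' := b.injective (by rw [hj, map_zero, map_zero])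
           map_add' := fun x y => b.injective (by rw [hj, map_add, map_add, hj, hj]) }, hj⟩

variable {Ω : Type u} [Field Ω] (O : ValuationSubring Ω)

/-- the embedding of the residue field of a subfield into the residue field of `O` -/
noncomputable def emb {M : Type u} [Field M] (g : M →+* Ω) : ResidueField (O.comap g) →+* ResidueField O :=
  ResidueField.map (inclOfComap O g)

theorem emb_residue {M : Type u} [Field M] (g : M →+* Ω) (x : O.comap g) :
    emb O g (residue _ x) = residue O ⟨g x, x.2⟩ := rfl

/-- close elements have the same residue -/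
theorem residue_eq_of_sub_lt {x y : Ω} (hx : x ∈ O) (hy : y ∈ O) (h : O.valuation (y - x) < 1) :
    residue O ⟨y, hy⟩ = residue O ⟨x, hx⟩ := by
  rw [← sub_eq_zero, ← map_sub, residue_eq_zero_iff]
  exact (O.valuation_lt_one_iff _).2 h

theorem exists_emb_eq {M M' : Type u} [Field M] [Field M'] (g : M →+* Ω) (g' : M' →+* Ω)
    (h : Close O (Set.range g) (Set.range g')) (x : ResidueField (O.comap g)) :
    ∃ y : ResidueField (O.comap g'), emb O g' y = emb O g x := by
  obtain ⟨x, rfl⟩ := residue_surjective x
  rcases eq_or_ne (g (x : M)) 0 with h0 | h0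
  · refine ⟨0, ?_⟩
    have hx : x = 0 := Subtype.ext ((map_eq_zero g).1 h0)
    rw [hx, map_zero, map_zero, map_zero]
  obtain ⟨_, ⟨y, rfl⟩, hy⟩ := h (g x) ⟨_, rfl⟩ h0
  have hx1 : O.valuation (g x) ≤ 1 := (ValuationSubring.valuation_le_one_iff _ _).2 x.2
  have hyO : g' y ∈ O := by
    rw [← ValuationSubring.valuation_le_one_iff, valuation_eq_of_sub_lt hy]
    exact hx1
  refine ⟨residue _ ⟨y, hyO⟩, ?_⟩
  rw [emb_residue, emb_residue]
  exact residue_eq_of_sub_lt O x.2 hyO (hy.trans_le hx1)

/-- an element of value `≤ 1` which is algebraic over `E` has a residue algebraic over the residue field of `E` -/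
theorem exists_poly {E : Type u} [Field E] (f : E →+* Ω) (x : Ω) (hx : x ∈ O) (P : Polynomial E) (hP : P ≠ 0)
    (hPx : P.eval₂ f x = 0) :
    ∃ Q : Polynomial (ResidueField (O.comap f)), Q ≠ 0 ∧ Q.eval₂ (emb O f) (residue O ⟨x, hx⟩) = 0 := by
  classical
  -- normalize `P`
  have hne : P.support.Nonempty := Polynomial.nonempty_support_iff.2 hP
  obtain ⟨j, hj, hmax⟩ := Finset.exists_max_image P.support (fun i => O.valuation (f (P.coeff i))) hne
  have hj0 : P.coeff j ≠ 0 := Polynomial.mem_support_iff.1 hj
  have hvpos : 0 < O.valuation (f (P.coeff j)) :=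
    zero_lt_iff.2 ((Valuation.ne_zero_iff _).2 ((map_ne_zero f).2 hj0))
  have hc : ∀ i, P.coeff i / P.coeff j ∈ O.comap f := by
    intro i
    show f _ ∈ O
    rw [← ValuationSubring.valuation_le_one_iff, map_div₀, map_div₀]
    by_cases hi : i ∈ P.support
    · exact (div_le_one₀ hvpos).2 (hmax i hi)
    · rw [Polynomial.notMem_support_iff.1 hi, map_zero, map_zero, zero_div]
      exact zero_le_one
  let c : ℕ → O.comap f := fun i => ⟨P.coeff i / P.coeff j, hc i⟩
  let Q₀ : Polynomial (O.comap f) := ∑ i ∈ P.support, Polynomial.monomial i (c i)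
  have hQ₀ : Q₀.eval₂ (inclOfComap O f) ⟨x, hx⟩ = 0 := by
    apply Subtype.ext
    rw [Polynomial.eval₂_finsetSum]
    have h1 : ((∑ i ∈ P.support, Polynomial.eval₂ (inclOfComap O f) ⟨x, hx⟩ (Polynomial.monomial i (c i)) : O) : Ω) =
        ∑ i ∈ P.support, f (P.coeff i / P.coeff j) * x ^ i := by
      rw [AddSubmonoidClass.coe_finsetSum]
      refine Finset.sum_congr rfl fun i _ => ?_
      rw [Polynomial.eval₂_monomial]
      rfl
    rw [h1]
    have h2 : ∑ i ∈ P.support, f (P.coeff i / P.coeff j) * x ^ i = P.eval₂ f x / f (P.coeff j) := by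
      rw [Polynomial.eval₂_eq_sum, Polynomial.sum_def, Finset.sum_div]
      refine Finset.sum_congr rfl fun i _ => ?_
      rw [map_div₀]; ring
    rw [h2, hPx, zero_div]
    rfl
  refine ⟨Q₀.map (residue _), ?_, ?_⟩
  · intro h0
    have h1 : (Q₀.map (residue _)).coeff j = 1 := by
      rw [Polynomial.coeff_map]
      have h2 : Q₀.coeff j = 1 := by
        show (∑ i ∈ P.support, Polynomial.monomial i (c i)).coeff j = 1
        rw [Polynomial.finsetSum_coeff, Finset.sum_eq_single j]
        · rw [Polynomial.coeff_monomial_same]
          exact Subtype.ext (div_self hj0)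
        · intro i _ hij
          exact Polynomial.coeff_monomial_of_ne _ hij.symm
        · intro h; exact absurd hj h
      rw [h2, map_one]
    rw [h0, Polynomial.coeff_zero] at h1
    exact zero_ne_one h1
  · rw [Polynomial.eval₂_map]
    have h1 : (emb O f).comp (residue _) = (residue O).comp (inclOfComap O f) := by
      ext y; rfl
    rw [h1, ← Polynomial.hom_eval₂, hQ₀, map_zero]

/-- **Transfer of the separability of the residue field extension.** -/
theorem geomReduced_of_close {E M E' M' : Type u} [Field E] [Field M] [Field E'] [Field M']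
    (g : M →+* Ω) (f : E →+* M) (g' : M' →+* Ω) (f' : E' →+* M')
    (h1 : Close O (Set.range (g.comp f)) (Set.range (g'.comp f'))) (h2 : Close O (Set.range g') (Set.range g))
    (halg : ∀ x : E', ∃ P : Polynomial E, P ≠ 0 ∧ P.eval₂ (g.comp f) (g' (f' x)) = 0)
    (hg : @Algebra.IsGeometricallyReduced (ResidueField ((O.comap g).comap f)) (ResidueField (O.comap g)) _ _
          (ResidueField.map (inclOfComap (O.comap g) f)).toAlgebra) :
    @Algebra.IsGeometricallyReduced (ResidueField ((O.comap g').comap f')) (ResidueField (O.comap g')) _ _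
          (ResidueField.map (inclOfComap (O.comap g') f')).toAlgebra := by
  let i : ResidueField ((O.comap g).comap f) →+* ResidueField (O.comap g) :=
    ResidueField.map (inclOfComap (O.comap g) f)
  let i' : ResidueField ((O.comap g').comap f') →+* ResidueField (O.comap g') :=
    ResidueField.map (inclOfComap (O.comap g') f')
  have hi : ∀ x, emb O g (i x) = emb O (g.comp f) x := by
    intro x
    obtain ⟨x, rfl⟩ := residue_surjective x
    rfl
  have hi' : ∀ x, emb O g' (i' x) = emb O (g'.comp f') x := by
    intro x
    obtain ⟨x, rfl⟩ := residue_surjective x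
    rfl
  obtain ⟨θ₁, hθ₁⟩ := exists_factor (emb O (g.comp f)) (emb O (g'.comp f')) (exists_emb_eq O _ _ h1)
  obtain ⟨θ₂, hθ₂⟩ := exists_factor (emb O g') (emb O g) (exists_emb_eq O _ _ h2)
  let _ : Algebra (ResidueField (O.comap (g.comp f))) (ResidueField (O.comap (g'.comp f'))) := θ₁.toAlgebra
  let _ : Algebra (ResidueField (O.comap g')) (ResidueField (O.comap g)) := θ₂.toAlgebra
  let _ : Algebra (ResidueField (O.comap (g'.comp f'))) (ResidueField (O.comap g')) := i'.toAlgebra
  let _ : Algebra (ResidueField (O.comap (g.comp f))) (ResidueField (O.comap g)) := i.toAlgebra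
  let _ : Algebra (ResidueField (O.comap (g'.comp f'))) (ResidueField (O.comap g)) := (θ₂.comp i').toAlgebra
  have t1 : IsScalarTower (ResidueField (O.comap (g.comp f))) (ResidueField (O.comap (g'.comp f')))
      (ResidueField (O.comap g)) := IsScalarTower.of_algebraMap_eq fun x => by
    apply (emb O g).injective
    show emb O g (i x) = emb O g (θ₂ (i' (θ₁ x)))
    rw [hi, hθ₂, hi', hθ₁]
  have hg0 : Algebra.IsGeometricallyReduced (ResidueField (O.comap (g.comp f))) (ResidueField (O.comap g)) := hg
  have halg' : Algebra.IsAlgebraic (ResidueField (O.comap (g.comp f))) (ResidueField (O.comap (g'.comp f'))) := by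
    refine ⟨fun z => ?_⟩
    obtain ⟨z, rfl⟩ := residue_surjective z
    obtain ⟨P, hP, hPz⟩ := halg z
    obtain ⟨Q, hQ, hQz⟩ := exists_poly O (g.comp f) (g' (f' z)) z.2 P hP hPz
    refine ⟨Q, hQ, (emb O (g'.comp f')).injective ?_⟩
    rw [Polynomial.aeval_def, Polynomial.hom_eval₂, map_zero]
    have h3 : (emb O (g'.comp f')).comp (algebraMap (ResidueField (O.comap (g.comp f)))
        (ResidueField (O.comap (g'.comp f')))) = emb O (g.comp f) := RingHom.ext hθ₁
    rw [h3]
    exact hQz
  have hg1 : Algebra.IsGeometricallyReduced (ResidueField (O.comap (g'.comp f'))) (ResidueField (O.comap g)) :=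
    geomReduced_of_tower (ResidueField (O.comap (g.comp f))) _ _
  let φ : ResidueField (O.comap g') →ₐ[ResidueField (O.comap (g'.comp f'))] ResidueField (O.comap g) :=
    { θ₂ with commutes' := fun _ => rfl }
  have h5 : Algebra.IsGeometricallyReduced (ResidueField (O.comap (g'.comp f'))) (ResidueField (O.comap g')) :=
    Algebra.IsGeometricallyReduced.of_injective φ θ₂.injective
  exact h5

end Groth.Agent.Etalg.H122.ResClose
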